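import Mathlib.AlgebraicGeometry.Morphisms.FinitePresentation
import Mathlib.AlgebraicGeometry.Morphisms.Flat
import Mathlib.RingTheory.LocalRing.ResidueField.Fiber
import Mathlib.RingTheory.Ideal.GoingDown
import Mathlib.Topology.Irreducible

/-!
Finitely many irreducible components pass to flat finite type algebras.
-/

set_option autoImplicit false

universe u

open AlgebraicGeometry CategoryTheory

namespace Groth.Agent.IrrFin

theorem finite_minimalPrimes {A B : Type u} [CommRing A] [CommRing B] [Algebra A B] [Module.Flat A B]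
    [Algebra.FiniteType A B] (h : (minimalPrimes A).Finite) : (minimalPrimes B).Finite := by
  classical
  let S : Ideal A → Set (Ideal B) := fun p => if hp : p.IsPrime then
    haveI := hp
    (fun Q : p.primesOver B => Q.1) '' ((fun Q => (PrimeSpectrum.primesOverOrderIsoFiber A B p Q).asIdeal) ⁻¹'
      minimalPrimes (p.Fiber B)) else ∅
  refine (h.biUnion (t := S) fun p hp => ?_).subset fun Q hQ => ?_
  · haveI : p.IsPrime := hp.1.1
    simp only [S, dif_pos ‹p.IsPrime›]
    haveI : IsNoetherianRing (p.Fiber B) := Algebra.FiniteType.isNoetherianRing p.ResidueField _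
    refine Set.Finite.image _ ((minimalPrimes.finite_of_isNoetherianRing _).preimage ?_)
    exact fun a _ b _ hab => (PrimeSpectrum.primesOverOrderIsoFiber A B p).injective (PrimeSpectrum.ext hab)
  · haveI : Q.IsPrime := hQ.1.1
    let p := Q.comap (algebraMap A B)
    haveI : Q.LiesOver p := ⟨rfl⟩
    have hp : p ∈ minimalPrimes A := by
      refine ⟨⟨inferInstance, bot_le⟩, fun q hq hqp => ?_⟩
      haveI := hq.1
      by_contra hne
      obtain ⟨P, hPQ, hP, -⟩ := Ideal.exists_ideal_lt_liesOver_of_lt (S := B) Q (lt_of_le_not_ge hqp hne)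
      exact absurd (hQ.2 ⟨hP, bot_le⟩ hPQ.le) (not_le_of_gt hPQ)
    refine Set.mem_biUnion hp ?_
    simp only [S, dif_pos (inferInstance : p.IsPrime)]
    refine ⟨⟨Q, ⟨inferInstance, inferInstance⟩⟩, ⟨⟨PrimeSpectrum.isPrime _, bot_le⟩, fun P hP hle => ?_⟩, rfl⟩
    let e := PrimeSpectrum.primesOverOrderIsoFiber A B p
    haveI := hP.1
    have h1 : e.symm ⟨P, hP.1⟩ ≤ ⟨Q, ⟨inferInstance, inferInstance⟩⟩ := e.symm_apply_le.2 hle
    haveI := (e.symm ⟨P, hP.1⟩).2.1
    have h2 : (⟨Q, ⟨inferInstance, inferInstance⟩⟩ : p.primesOver B) ≤ e.symm ⟨P, hP.1⟩ :=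
      hQ.2 ⟨(e.symm ⟨P, hP.1⟩).2.1, bot_le⟩ h1
    exact e.le_symm_apply.1 h2

theorem finite_irreducibleComponents_of_cover {X : Type u} [TopologicalSpace X] {ι : Type u} [Finite ι]
    {W : ι → Type u} [∀ i, TopologicalSpace (W i)] (f : ∀ i, W i → X) (hf : ∀ i, Topology.IsOpenEmbedding (f i))
    (hcov : ∀ x, ∃ i w, f i w = x) (hW : ∀ i, (irreducibleComponents (W i)).Finite) :
    (irreducibleComponents X).Finite := by
  refine ((Set.finite_iUnion fun i => (hW i).image (fun s => closure (f i '' s)))).subset fun Z hZ => ?_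
  obtain ⟨z, hz⟩ := hZ.1.nonempty
  obtain ⟨i, w, rfl⟩ := hcov z
  refine Set.mem_iUnion.2 ⟨i, f i ⁻¹' Z, preimage_mem_irreducibleComponents hZ (hf i) ⟨_, hz, w, rfl⟩, ?_⟩
  exact closure_image_preimage_of_isPreirreducible (f i) (hf i).isOpenMap Z ⟨w, hz⟩ hZ.1.2
    (isClosed_of_mem_irreducibleComponents Z hZ)

theorem finite_irreducibleComponents_iff {X Y : Type u} [TopologicalSpace X] [TopologicalSpace Y] (e : X ≃ₜ Y)
    (h : (irreducibleComponents X).Finite) : (irreducibleComponents Y).Finite :=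
  finite_irreducibleComponents_of_cover (ι := PUnit.{u+1}) (fun _ => e) (fun _ => e.isOpenEmbedding)
    (fun y => ⟨⟨⟩, e.symm y, e.apply_symm_apply y⟩) fun _ => h

theorem finite_minimalPrimes_iff (A : Type u) [CommRing A] :
    (irreducibleComponents (PrimeSpectrum A)).Finite ↔ (minimalPrimes A).Finite := by
  constructor
  · intro h
    rw [← PrimeSpectrum.vanishingIdeal_irreducibleComponents]
    exact h.image _
  · intro h
    rw [← PrimeSpectrum.zeroLocus_minimalPrimes]
    exact h.image _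

theorem finite_irreducibleComponents_of_flat {X Y : Scheme.{u}} (f : Y ⟶ X) [Flat f] [LocallyOfFiniteType f]
    (hX : ∀ U : X.Opens, IsCompact (U : Set X) → (irreducibleComponents (U : Type u)).Finite)
    (V : Y.Opens) (hV : IsCompact (V : Set Y)) : (irreducibleComponents (V : Type u)).Finite := by
  classical
  have hloc : ∀ y : (V : Set Y), ∃ (W : Y.affineOpens) (A : X.affineOpens),
      (y : Y) ∈ W.1 ∧ W.1 ≤ V ∧ W.1 ≤ f ⁻¹ᵁ A.1 := by
    intro y
    obtain ⟨_, ⟨A, hA, rfl⟩, hfA, -⟩ := X.isBasis_affineOpens.exists_subset_of_mem_open (Set.mem_univ (f y.1)) isOpen_univ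
    obtain ⟨_, ⟨W, hW, rfl⟩, hyW, hWV⟩ := Y.isBasis_affineOpens.exists_subset_of_mem_open
      (show y.1 ∈ V ⊓ f ⁻¹ᵁ A from ⟨y.2, hfA⟩) (V ⊓ f ⁻¹ᵁ A).2
    exact ⟨⟨W, hW⟩, ⟨A, hA⟩, hyW, fun z hz => (hWV hz).1, fun z hz => (hWV hz).2⟩
  choose W A hyW hWV hWA using hloc
  obtain ⟨T, hT⟩ := hV.elim_finite_subcover (fun y => ((W y).1 : Set Y)) (fun y => (W y).1.2)
    fun y hy => Set.mem_iUnion.2 ⟨⟨y, hy⟩, hyW ⟨y, hy⟩⟩
  refine finite_irreducibleComponents_of_cover (ι := T) (W := fun i => ((W i.1).1 : Type u))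
    (fun i => Y.homOfLE (hWV i.1)) (fun i => (Y.homOfLE (hWV i.1)).isOpenEmbedding) (fun y => ?_) fun i => ?_
  · obtain ⟨i, hi, hy⟩ := Set.mem_iUnion₂.1 (hT y.2)
    refine ⟨⟨i, hi⟩, ⟨y.1, hy⟩, Subtype.ext ?_⟩
    simp [Scheme.homOfLE_apply]
  · letI := (f.appLE (A i.1).1 (W i.1).1 (hWA i.1)).hom.toAlgebra
    haveI : Module.Flat Γ(X, (A i.1).1) Γ(Y, (W i.1).1) :=
      HasRingHomProperty.appLE (P := @Flat) f inferInstance (A i.1) (W i.1) (hWA i.1)
    haveI : Algebra.FiniteType Γ(X, (A i.1).1) Γ(Y, (W i.1).1) :=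
      HasRingHomProperty.appLE (P := @LocallyOfFiniteType) f inferInstance (A i.1) (W i.1) (hWA i.1)
    have hA := finite_irreducibleComponents_iff ((A i.1).2.isoSpec.hom.homeomorph)
      (hX _ (A i.1).2.isCompact)
    have hW := (finite_minimalPrimes_iff _).2
      (finite_minimalPrimes (A := Γ(X, (A i.1).1)) (B := Γ(Y, (W i.1).1)) ((finite_minimalPrimes_iff _).1 hA))
    exact finite_irreducibleComponents_iff ((W i.1).2.isoSpec.hom.homeomorph).symm hW

end Groth.Agent.IrrFin
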